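import Groth.Agent.EtRepLib.Const
import Groth.Agent.FLCLib.Basic
import Groth.Agent.EtVanish.Split
import Groth.Prelude.Def_EtCore

/-!
# First cohomology of finite locally constant sheaves when finite etale coverings split
-/

set_option autoImplicit false
set_option backward.isDefEq.respectTransparency false
set_option backward.isDefEq.respectTransparency.types false
set_option linter.style.haveILetI false
set_option maxHeartbeats 1000000

universe u

open CategoryTheory CategoryTheory.Limits AlgebraicGeometry Opposite GrothendieckTopology Abelian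

noncomputable section

namespace Groth.Agent.EtH1Lib

open EtPtsLib FLCLib EtRepLib

variable {Z : Scheme.{u}}

theorem map_add' (F : EtCoh.Ab Z) {U V : Z.Etale} (g : V ⟶ U) (a b : EtCoh.sect F U) :
    F.obj.map g.op (a + b) = F.obj.map g.op a + F.obj.map g.op b := map_add _ _ _

theorem app_map {F G : EtCoh.Ab Z} (a : F ⟶ G) {U V : Z.Etale} (g : V ⟶ U) (s : EtCoh.sect F U) :
    a.hom.app (op V) (F.obj.map g.op s) = G.obj.map g.op (a.hom.app (op U) s) :=
  NatTrans.naturality_apply a.hom g.op s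

variable {S : ShortComplex (EtCoh.Ab Z)} (hS : S.ShortExact)

include hS in
theorem exists_preimage (U : Z.Etale) (s : EtCoh.sect S.X₂ U) (h : S.g.hom.app (op U) s = 0) :
    ∃ m : EtCoh.sect S.X₁ U, S.f.hom.app (op U) m = s := by
  let G : EtCoh.Ab Z ⥤ AddCommGrpCat.{u + 1} := sheafToPresheaf _ _ ⋙ (evaluation _ _).obj (op U)
  have hex : (S.map G).Exact := (S.map G).exact_of_f_is_kernel (isLimitForkMapOfIsLimit' G S.zero hS.fIsKernel)
  exact (ShortComplex.ab_exact_iff _).1 hex s h

include hS in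
theorem app_injective (U : Z.Etale) : Function.Injective (S.f.hom.app (op U)) := by
  haveI := hS.mono_f
  haveI : Mono (S.f.hom.app (op U)) :=
    (sheafToPresheaf _ _ ⋙ (evaluation _ _).obj (op U)).map_mono S.f
  exact (AddCommGrpCat.mono_iff_injective _).1 ‹_›

/-- The lifts of a global section. -/
def lifts (q : EtCoh.sect S.X₃ (EtCoh.top Z)) : Z.Etaleᵒᵖ ⥤ Type (u + 1) where
  obj U := {i : EtCoh.sect S.X₂ U.unop //
    S.g.hom.app U i = S.X₃.obj.map ((EtCore.topIsTerminal Z).from U.unop).op q}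
  map {U V} a := ↾fun i => ⟨S.X₂.obj.map a i.1, by
    show S.g.hom.app V _ = _
    rw [show S.g.hom.app V (S.X₂.obj.map a i.1) = S.X₃.obj.map a (S.g.hom.app U i.1) from
      NatTrans.naturality_apply S.g.hom a i.1, i.2, ← CategoryTheory.comp_apply, ← Functor.map_comp,
      show ((EtCore.topIsTerminal Z).from U.unop).op ≫ a = ((EtCore.topIsTerminal Z).from V.unop).op from
        congrArg Quiver.Hom.op (show a.unop ≫ _ = _ from (EtCore.topIsTerminal Z).hom_ext _ _)]⟩
  map_id U := by
    ext i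
    exact ConcreteCategory.congr_hom (S.X₂.obj.map_id U) i.1
  map_comp a b := by
    ext i
    exact ConcreteCategory.congr_hom (S.X₂.obj.map_comp a b) i.1

theorem isSheaf_lifts (q : EtCoh.sect S.X₃ (EtCoh.top Z)) : Presieve.IsSheaf Z.smallEtaleTopology (lifts q) := by
  intro U R hR x hx
  have h2 := (isSheaf_iff_isSheaf_of_type _ _).1
    ((sheafCompose Z.smallEtaleTopology (forget AddCommGrpCat.{u + 1})).obj S.X₂).property
  have h3 := (isSheaf_iff_isSheaf_of_type _ _).1
    ((sheafCompose Z.smallEtaleTopology (forget AddCommGrpCat.{u + 1})).obj S.X₃).property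
  obtain ⟨t, ht, htu⟩ := h2 R hR (fun Y f hf => (x f hf).1) fun Y₁ Y₂ W g₁ g₂ f₁ f₂ h₁ h₂ e =>
    congrArg Subtype.val (hx g₁ g₂ h₁ h₂ e)
  have htq : S.g.hom.app (op U) t = S.X₃.obj.map ((EtCore.topIsTerminal Z).from U).op q := by
    refine ((h3.isSeparated) R hR).ext fun Y f hf => ?_
    show S.X₃.obj.map f.op _ = S.X₃.obj.map f.op _
    rw [← app_map]
    refine (congrArg (S.g.hom.app (op Y)) (ht f hf)).trans ((x f hf).2.trans ?_)
    rw [← CategoryTheory.comp_apply, ← Functor.map_comp, ← op_comp,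
      (EtCore.topIsTerminal Z).hom_ext (f ≫ (EtCore.topIsTerminal Z).from U) ((EtCore.topIsTerminal Z).from Y)]
  exact ⟨⟨t, htq⟩, fun Y f hf => Subtype.ext (ht f hf),
    fun t' ht' => Subtype.ext (htu t'.1 fun Y f hf => congrArg Subtype.val (ht' f hf))⟩

include hS in
/-- Lifts of a section exist after a finite etale covering. -/
theorem exists_cover_lift (hF : EtCoh.IsFiniteLocallyConstant S.X₁) (q : EtCoh.sect S.X₃ (EtCoh.top Z)) :
    ∃ (T : Z.Etale) (_ : IsFinite T.hom) (_ : Surjective T.hom) (i : EtCoh.sect S.X₂ T),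
      S.g.hom.app (op T) i = S.X₃.obj.map ((EtCore.topIsTerminal Z).from T).op q := by
  haveI := hS.epi_g
  haveI : Sheaf.IsLocallySurjective S.g :=
    (Sheaf.isLocallySurjective_iff_epi' AddCommGrpCat.{u + 1} S.g).2 inferInstance
  choose V₀ g₀ v₀ hg₀ hv₀ using fun z : Z =>
    exists_mem_of_covering (Presheaf.imageSieve_mem Z.smallEtaleTopology S.g.hom (U := op (EtCoh.top Z)) q) z
  choose V₁ M θ hV₁ hM hθ using (finiteLocallyConstant_iff S.X₁).1 hF
  haveI : ∀ z, Finite (M z) := hM
  -- a common refinement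
  have href : ∀ z : Z, ∃ (U : Z.Etale) (a : U ⟶ V₀ z) (b : U ⟶ V₁ z), z ∈ Set.range U.hom := fun z => by
    obtain ⟨y, hy⟩ := hV₁ z
    have hx : (V₀ z).hom (v₀ z) = (V₁ z).hom y := by
      rw [hy, show (V₀ z).hom = (g₀ z).left from (Over.w (g₀ z).hom).symm.trans (Category.comp_id _)]
      exact hv₀ z
    obtain ⟨w, hw, -⟩ := Scheme.Pullback.exists_preimage_pullback (f := (V₀ z).hom) (g := (V₁ z).hom) _ _ hx
    haveI := (V₀ z).prop
    haveI := (V₁ z).prop
    refine ⟨Scheme.Etale.mk (pullback.fst (V₀ z).hom (V₁ z).hom ≫ (V₀ z).hom),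
      MorphismProperty.Over.homMk (pullback.fst _ _) rfl,
      MorphismProperty.Over.homMk (pullback.snd _ _) pullback.condition.symm, w, ?_⟩
    show (V₀ z).hom (pullback.fst (V₀ z).hom (V₁ z).hom w) = z
    rw [hw, show (V₀ z).hom = (g₀ z).left from (Over.w (g₀ z).hom).symm.trans (Category.comp_id _)]
    exact hv₀ z
  choose U a b hU using href
  choose i₀ hi₀ using hg₀
  have hi : ∀ z, S.g.hom.app (op (U z)) (S.X₂.obj.map (a z).op (i₀ z)) =
      S.X₃.obj.map ((EtCore.topIsTerminal Z).from (U z)).op q := fun z => by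
    rw [app_map, hi₀, ← CategoryTheory.comp_apply, ← Functor.map_comp, ← op_comp,
      (EtCore.topIsTerminal Z).hom_ext (a z ≫ g₀ z) ((EtCore.topIsTerminal Z).from (U z))]
  have hg0 : ∀ (W : Z.Etale) (m : EtCoh.sect S.X₁ W), S.g.hom.app (op W) (S.f.hom.app (op W) m) = 0 := fun W m => by
    exact congrArg (fun q : S.X₁ ⟶ S.X₃ => q.hom.app (op W) m) S.zero
  let D : ConstData (lifts q) :=
    { ι := Z, U := U, cov := fun z => ⟨z, hU z⟩, n := fun z => Nat.card (M z)
      θ := fun z m => ⟨S.X₂.obj.map (a z).op (i₀ z) +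
          S.f.hom.app (op (U z)) ((θ z ≫ S.X₁.obj.map (b z).op) ((Finite.equivFin (M z)).symm m)), by
        show S.g.hom.app (op (U z)) _ = _
        rw [map_add, hi, hg0, add_zero]⟩
      gen := fun z W g σ v => by
        obtain ⟨d, hd⟩ := exists_preimage hS W (σ.1 - S.X₂.obj.map g.op (S.X₂.obj.map (a z).op (i₀ z))) (by
          rw [map_sub, app_map, hi, σ.2, ← CategoryTheory.comp_apply, ← Functor.map_comp, ← op_comp,
            (EtCore.topIsTerminal Z).hom_ext (g ≫ (EtCore.topIsTerminal Z).from (U z))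
              ((EtCore.topIsTerminal Z).from W), sub_self])
        obtain ⟨l, hl⟩ := exists_lift_geomPt v
        obtain ⟨m, hm⟩ := (((hθ z).map (b z)).map g _ _ l).2 (germ _ S.X₁ l d)
        obtain ⟨T, e, t, ht, he⟩ := ((Scheme.pointSmallEtale _).toPresheafFiber_eq_iff' W l _ _).1 hm
        refine ⟨T, e, liftHom _ t default, Finite.equivFin (M z) m, ?_, ?_⟩
        · refine Eq.trans ?_ hl
          refine Eq.trans ?_ (congrArg (fun q => liftHom _ q default) ht)
          rw [liftHom_map]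
          rfl
        · refine Subtype.ext ?_
          show S.X₂.obj.map e.op σ.1 = S.X₂.obj.map (e ≫ g).op _
          rw [Equiv.symm_apply_apply, op_comp, Functor.map_comp, CategoryTheory.comp_apply,
            show σ.1 = S.X₂.obj.map g.op (S.X₂.obj.map (a z).op (i₀ z)) + S.f.hom.app (op W) d by
              rw [hd]; abel, map_add', map_add' _ g, map_add' _ e, ← app_map, ← app_map]
          exact congrArg₂ (· + ·) rfl ((congrArg (fun w => S.f.hom.app (op T) w) he.symm).trans (app_map S.f e _))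
      sep := fun z W g v m m' hm => by
        have h1 : S.X₂.obj.map g.op (_ + _) = S.X₂.obj.map g.op (_ + _) := congrArg Subtype.val hm
        rw [map_add', map_add', add_left_cancel_iff, ← app_map, ← app_map] at h1
        obtain ⟨l, -⟩ := exists_lift_geomPt v
        exact (Finite.equivFin (M z)).symm.injective
          ((((hθ z).map (b z)).map g _ _ l).1 (congrArg (germ _ S.X₁ l) (app_injective hS W h1))) }
  obtain ⟨T, hT, t, ht⟩ := D.exists_representing (isSheaf_lifts q)
  haveI : AlgebraicGeometry.Etale T.hom := T.prop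
  haveI : Surjective T.hom := ⟨fun z => by
    obtain ⟨w, hw⟩ := hU z
    obtain ⟨h, -⟩ := (ht (U z)).2 ⟨_, hi z⟩
    refine ⟨h.left w, ?_⟩
    exact ((Scheme.Hom.comp_apply h.left T.hom w).symm.trans
      (congrArg (fun f : (U z).left ⟶ Z => f w) (MorphismProperty.Over.w h))).trans hw⟩
  exact ⟨T, hT, inferInstance, t.1, t.2⟩

include hS in
/-- Lifts of a section exist globally if finite etale coverings split. -/
theorem exists_lift (hF : EtCoh.IsFiniteLocallyConstant S.X₁)
    (hsec : ∀ {W : Scheme.{u}} (p : W ⟶ Z) [AlgebraicGeometry.Etale p] [IsFinite p] [Surjective p],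
      ∃ s : Z ⟶ W, s ≫ p = 𝟙 Z)
    (q : EtCoh.sect S.X₃ (EtCoh.top Z)) : ∃ i : EtCoh.sect S.X₂ (EtCoh.top Z), S.g.hom.app (op (EtCoh.top Z)) i = q := by
  obtain ⟨T, _, _, i, hi⟩ := exists_cover_lift hS hF q
  haveI : AlgebraicGeometry.Etale T.hom := T.prop
  obtain ⟨s, hs⟩ := hsec T.hom
  let s' : EtCoh.top Z ⟶ T := MorphismProperty.Over.homMk s hs
  let t : (lifts q).obj (op T) := ⟨i, hi⟩
  refine ⟨((lifts q).map s'.op t).1, ((lifts q).map s'.op t).2.trans ?_⟩
  rw [(EtCore.topIsTerminal Z).hom_ext ((EtCore.topIsTerminal Z).from _) (𝟙 _), op_id, S.X₃.obj.map_id]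
  rfl

/-- Constant sheaves with finite values are finite locally constant. -/
theorem isFiniteLocallyConstant_const (M : Type) [AddCommGroup M] [Finite M] :
    EtCoh.IsFiniteLocallyConstant (EtCoh.const Z M) :=
  (finiteLocallyConstant_iff _).2 fun z => ⟨EtCoh.top Z, AddCommGrpCat.of (ULift.{u + 1} M),
    cst (AddCommGrpCat.of (ULift.{u + 1} M)) (EtCoh.top Z), ⟨z, rfl⟩, (inferInstance : Finite (ULift.{u + 1} M)),
    fun _ _ _ ξ l => germ_cst_bijective ξ _ l⟩

/-- `H¹` of a finite locally constant sheaf vanishes if finite etale coverings split. -/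
theorem subsingleton_H1 (hsec : ∀ {W : Scheme.{u}} (p : W ⟶ Z) [AlgebraicGeometry.Etale p] [IsFinite p] [Surjective p],
      ∃ s : Z ⟶ W, s ≫ p = 𝟙 Z)
    (F : EtCoh.Ab Z) (hF : EtCoh.IsFiniteLocallyConstant F) : Subsingleton (EtCoh.H Z F 1) := by
  let T := ShortComplex.mk (Injective.ι F) (cokernel.π (Injective.ι F)) (cokernel.condition _)
  have hT : T.ShortExact := { exact := ShortComplex.exact_of_g_is_cokernel T (cokernelIsCokernel _) }
  haveI : Injective T.X₂ := Injective.injective_under F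
  refine subsingleton_of_forall_eq 0 fun x => ?_
  obtain ⟨y, rfl⟩ := Ext.covariant_sequence_exact₁ _ hT x (Ext.eq_zero_of_injective _) (zero_add 1)
  obtain ⟨t, ht⟩ := exists_lift hT hF hsec (Sheaf.H.equiv₀ T.X₃ (EtCore.topIsTerminal Z) y)
  have hy : y = Sheaf.H.map T.g 0 ((Sheaf.H.equiv₀ T.X₂ (EtCore.topIsTerminal Z)).symm t) := by
    rw [Sheaf.H.equiv₀_symm_naturality]
    exact ((Sheaf.H.equiv₀ T.X₃ (EtCore.topIsTerminal Z)).eq_symm_apply.2 ht.symm)
  rw [hy, Sheaf.H.map_apply, Ext.comp_assoc_of_second_deg_zero, hT.comp_extClass, Ext.comp_zero]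

end Groth.Agent.EtH1Lib
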