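import Groth.Agent.S0089
import Groth.Agent.Hensel.FiniteEtale
import Groth.Agent.EtPtsLib.Parts

/-!
# Finite etale coverings of closed subschemes of normal affine schemes with separably closed function field split
-/

set_option autoImplicit false
set_option backward.isDefEq.respectTransparency false
set_option backward.isDefEq.respectTransparency.types false
set_option linter.style.haveILetI false
set_option maxHeartbeats 1000000

universe u

open CategoryTheory CategoryTheory.Limits AlgebraicGeometry Opposite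

noncomputable section

namespace Groth.Agent.EtH1Lib

/-- A finite etale scheme over a closed subscheme of an affine scheme is a closed subscheme of an affine etale scheme
over the whole. -/
theorem exists_etale_envelope {Z X W : Scheme.{u}} [IsAffine X] (i : Z ⟶ X) [IsClosedImmersion i]
    (p : W ⟶ Z) [AlgebraicGeometry.Etale p] [IsFinite p] :
    ∃ (U : Scheme.{u}) (g : U ⟶ X) (j : W ⟶ U),
      AlgebraicGeometry.Etale g ∧ IsSeparated g ∧ IsClosedImmersion j ∧ j ≫ g = p ≫ i := by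
  haveI : IsAffine Z := isAffine_of_isAffineHom i
  haveI : IsAffine W := isAffine_of_isAffineHom p
  let φ : Γ(X, ⊤) →+* Γ(Z, ⊤) := i.appTop.hom
  let ψ : Γ(Z, ⊤) →+* Γ(W, ⊤) := p.appTop.hom
  have hφ : Function.Surjective φ :=
    ((IsClosedImmersion.isAffine_surjective_of_isAffine i).2)
  have hψ : ψ.Etale := HasRingHomProperty.appTop (P := @AlgebraicGeometry.Etale) p ‹_›
  let e := RingHom.quotientKerEquivOfSurjective hφ
  letI : Algebra Γ(X, ⊤) Γ(W, ⊤) := (ψ.comp φ).toAlgebra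
  letI : Algebra (Γ(X, ⊤) ⧸ RingHom.ker φ) Γ(W, ⊤) := (ψ.comp e.toRingHom).toAlgebra
  haveI : IsScalarTower Γ(X, ⊤) (Γ(X, ⊤) ⧸ RingHom.ker φ) Γ(W, ⊤) := IsScalarTower.of_algebraMap_eq' rfl
  haveI : Algebra.Etale (Γ(X, ⊤) ⧸ RingHom.ker φ) Γ(W, ⊤) := RingHom.etale_algebraMap.1
    (RingHom.Etale.stableUnderComposition _ _ (RingHom.Etale.of_bijective e.bijective) hψ)
  obtain ⟨A', _, _, _, Φ, hΦ, -⟩ := Hensel.exists_etale_lift_of_quotient (A := Γ(X, ⊤)) (I := RingHom.ker φ) Γ(W, ⊤)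
  let g₀ : Spec (CommRingCat.of A') ⟶ Spec Γ(X, ⊤) := Spec.map (CommRingCat.ofHom (algebraMap Γ(X, ⊤) A'))
  let j₀ : Spec Γ(W, ⊤) ⟶ Spec (CommRingCat.of A') := Spec.map (CommRingCat.ofHom Φ.toRingHom)
  haveI : AlgebraicGeometry.Etale g₀ :=
    (HasRingHomProperty.Spec_iff (P := @AlgebraicGeometry.Etale)).2 (RingHom.etale_algebraMap.2 inferInstance)
  haveI : IsClosedImmersion j₀ := IsClosedImmersion.spec_of_surjective _ hΦ
  refine ⟨_, g₀ ≫ X.isoSpec.inv, W.isoSpec.hom ≫ j₀, inferInstance, inferInstance, inferInstance, ?_⟩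
  have h1 : j₀ ≫ g₀ = Spec.map (p ≫ i).appTop := by
    rw [← Spec.map_comp]
    congr 1
    exact CommRingCat.hom_ext Φ.comp_algebraMap
  rw [Category.assoc, reassoc_of% h1, ← Category.assoc, Scheme.isoSpec_hom_naturality, Category.assoc,
    Iso.hom_inv_id, Category.comp_id]

theorem isOpenImmersion_part {Z X W U V : Scheme.{u}} (p : W ⟶ Z) [AlgebraicGeometry.Etale p] (i : Z ⟶ X)
    (j : W ⟶ U) [Mono j] (g : U ⟶ X) (hjg : j ≫ g = p ≫ i) (c : V ⟶ U) [IsOpenImmersion c] (v : V ⟶ X) [Mono v]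
    (hc : c ≫ g = v) : IsOpenImmersion ((j ⁻¹ᵁ c.opensRange).ι ≫ p) := by
  have hr : Set.range ((j ⁻¹ᵁ c.opensRange).ι ≫ j) ⊆ Set.range c := by
    rintro _ ⟨z, rfl⟩
    obtain ⟨a, ha⟩ := z.2
    exact ⟨a, ha.trans (Scheme.Hom.comp_apply (j ⁻¹ᵁ c.opensRange).ι j z).symm⟩
  obtain ⟨l, hl⟩ : ∃ l, l ≫ c = (j ⁻¹ᵁ c.opensRange).ι ≫ j := ⟨_, IsOpenImmersion.lift_fac _ _ hr⟩
  haveI : Mono ((j ⁻¹ᵁ c.opensRange).ι ≫ p) := by
    refine ⟨fun {T} a b hab => ?_⟩
    have hlv : l ≫ v = ((j ⁻¹ᵁ c.opensRange).ι ≫ p) ≫ i := by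
      rw [← hc, reassoc_of% hl, hjg, Category.assoc]
    have hab' : a ≫ l = b ≫ l := by
      rw [← cancel_mono v, Category.assoc, Category.assoc, hlv, ← Category.assoc, hab, Category.assoc]
    rw [← cancel_mono (j ⁻¹ᵁ c.opensRange).ι, ← cancel_mono j, Category.assoc, Category.assoc, ← hl,
      reassoc_of% hab']
  exact IsOpenImmersion.of_flat_of_mono _

/-- A finite etale surjection which, on each part of a disjoint open covering of the target of a monomorphism out of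
its source, is mapped monomorphically, has a section. -/
theorem exists_section_of_parts {Z X W U : Scheme.{u}} [CompactSpace Z] (p : W ⟶ Z) [AlgebraicGeometry.Etale p]
    [IsFinite p] [Surjective p] (i : Z ⟶ X) (j : W ⟶ U) [Mono j] (g : U ⟶ X) (hjg : j ≫ g = p ≫ i)
    {ι : Type u} {V : ι → Scheme.{u}} (c : ∀ k, V k ⟶ U) [∀ k, IsOpenImmersion (c k)] (v : ∀ k, V k ⟶ X)
    [∀ k, Mono (v k)] (he : ∀ k, c k ≫ g = v k) (hcd : ∀ k l, ∀ a b, c k a = c l b → k = l)
    (hcc : ∀ z : U, ∃ k, z ∈ Set.range (c k)) : ∃ s : Z ⟶ W, s ≫ p = 𝟙 Z := by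
  let O : ι → W.Opens := fun k => j ⁻¹ᵁ (c k).opensRange
  have hd : ∀ k l (z : W), z ∈ O k → z ∈ O l → k = l := by
    rintro k l z ⟨a, ha⟩ ⟨b, hb⟩
    exact hcd k l a b (ha.trans hb.symm)
  have hc : ∀ z : W, ∃ k, z ∈ O k := fun z => hcc (j z)
  have hclosed : ∀ k, IsClosed (O k : Set W) := fun k => by
    have : (O k : Set W) = (⋃ l : {l // l ≠ k}, (O l.1 : Set W))ᶜ := by
      ext z
      simp only [Set.mem_compl_iff, Set.mem_iUnion, not_exists]
      refine ⟨fun hz l hl => l.2 (hd l.1 k z hl hz), fun h => ?_⟩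
      obtain ⟨l, hl⟩ := hc z
      by_cases hlk : l = k
      · exact hlk ▸ hl
      · exact absurd hl (h ⟨l, hlk⟩)
    rw [this]
    exact (isOpen_iUnion fun l : {l // l ≠ k} => (O l.1).isOpen).isClosed_compl
  haveI hO : ∀ k, IsOpenImmersion ((O k).ι ≫ p) := fun k => isOpenImmersion_part p i j g hjg (c k) (v k) (he k)
  let B : ι → Z.Opens := fun k => ((O k).ι ≫ p).opensRange
  have hBcov : ∀ z : Z, ∃ k, z ∈ B k := fun z => by
    obtain ⟨w, hw⟩ := p.surjective z
    obtain ⟨k, hk⟩ := hc w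
    exact ⟨k, ⟨⟨w, hk⟩, (Scheme.Hom.comp_apply _ _ _).trans hw⟩⟩
  have hBclosed : ∀ k, IsClosed (B k : Set Z) := fun k => by
    have : (B k : Set Z) = p '' (O k : Set W) := by
      ext z
      constructor
      · rintro ⟨w, rfl⟩
        exact ⟨_, w.2, (Scheme.Hom.comp_apply (O k).ι p w).symm⟩
      · rintro ⟨w, hw, rfl⟩
        exact ⟨⟨w, hw⟩, Scheme.Hom.comp_apply _ _ _⟩
    rw [this]
    exact p.isClosedMap _ (hclosed k)
  obtain ⟨t, ht⟩ := isCompact_univ.elim_finite_subcover (fun k => (B k : Set Z)) (fun k => (B k).2)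
    (fun z _ => Set.mem_iUnion.2 (hBcov z))
  let f : ULift.{u} (Fin t.card) → ι := fun a => (t.equivFin.symm a.down).1
  obtain ⟨D, hDd, hDle, hDcov⟩ : ∃ D : ULift.{u} (Fin t.card) → Z.Opens, (∀ a b, a ≠ b → Disjoint (D a) (D b)) ∧
      (∀ a, D a ≤ B (f a)) ∧ ∀ z a, z ∈ B (f a) → ∃ b, z ∈ D b :=
    EtPtsLib.exists_disjointify (fun a => B (f a)) (fun a => hBclosed (f a))
  have hDtop : ∀ z : Z, ∃ a, z ∈ D a := fun z => by
    obtain ⟨k, hk, hz⟩ := Set.mem_iUnion₂.1 (ht (Set.mem_univ z))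
    refine hDcov z ⟨t.equivFin ⟨k, hk⟩⟩ ?_
    show z ∈ B (f _)
    simpa [f] using hz
  obtain ⟨hcol⟩ := nonempty_isColimit_cofanMk_of (fun a => (D a).ι) (by
      rw [eq_top_iff]
      intro z _
      obtain ⟨a, ha⟩ := hDtop z
      exact TopologicalSpace.Opens.mem_iSup.2 ⟨a, (Scheme.Opens.opensRange_ι (D a)).symm ▸ ha⟩)
    (fun a b hab => by
      simp only [Function.onFun, Scheme.Opens.opensRange_ι]
      exact hDd a b hab)
  let σ : ∀ a, (D a).toScheme ⟶ W := fun a =>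
    IsOpenImmersion.lift ((O (f a)).ι ≫ p) (D a).ι (by
      rw [Scheme.Opens.range_ι]
      exact hDle a) ≫ (O (f a)).ι
  refine ⟨Cofan.IsColimit.desc hcol σ, Cofan.IsColimit.hom_ext hcol _ _ fun a => ?_⟩
  refine Eq.trans ?_ (Category.comp_id _).symm
  rw [Cofan.IsColimit.fac_assoc]
  show (IsOpenImmersion.lift _ _ _ ≫ (O (f a)).ι) ≫ p = (D a).ι
  rw [Category.assoc, IsOpenImmersion.lift_fac]

/-- Finite etale coverings of closed subschemes of normal affine schemes with separably closed function field split. -/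
theorem exists_section_of_finite_etale {Z X : Scheme.{u}} [IsAffine X] [IsIntegral X]
    (hN : ∀ x : X, IsIntegrallyClosed (X.presheaf.stalk x)) [IsSepClosed X.functionField]
    (i : Z ⟶ X) [IsClosedImmersion i] {W : Scheme.{u}} (p : W ⟶ Z) [AlgebraicGeometry.Etale p] [IsFinite p]
    [Surjective p] : ∃ s : Z ⟶ W, s ≫ p = 𝟙 Z := by
  obtain ⟨U, g, j, hg, hg', hj, hjg⟩ := exists_etale_envelope i p
  obtain ⟨ι, V, e, he⟩ := S0089.result hN g
  haveI : IsClosedImmersion j := hj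
  haveI : IsAffine Z := isAffine_of_isAffineHom i
  refine exists_section_of_parts p i j g hjg
    (fun k => Limits.Sigma.ι (fun k => (V k : Scheme.{u})) k ≫ e.hom) (fun k => (V k).ι)
    (fun k => (Category.assoc _ _ _).trans (he k)) (fun k l a b h => ?_) (fun z => ?_)
  · exact (Sigma.mk.inj_iff.1 ((sigmaι_eq_iff _ _ _ _ _).1 (e.hom.isOpenEmbedding.injective
      ((Scheme.Hom.comp_apply _ _ _).symm.trans (h.trans (Scheme.Hom.comp_apply _ _ _)))))).1
  · obtain ⟨k, a, ha⟩ := (sigmaOpenCover fun k => (V k : Scheme.{u})).exists_eq (e.inv z)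
    refine ⟨k, a, (Scheme.Hom.comp_apply _ _ _).trans ?_⟩
    rw [show Limits.Sigma.ι (fun k => (V k : Scheme.{u})) k a = e.inv z from ha]
    exact ((Scheme.Hom.comp_apply e.inv e.hom z).symm.trans (congrArg (fun f : U ⟶ U => f z) e.inv_hom_id))

end Groth.Agent.EtH1Lib
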